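import Cfsg.Agent.Lib.Helper51.TI3.LemK

/-!
# S3117 package QS5 (helper51's own copy): an automorphism of order 5 of an anisotropic quadratic
map on a group of order 16 forces the automorphism group to have order at most 10.
-/

set_option autoImplicit false

universe u v

namespace Cfsg.Agent.Lib.Helper51.TI3

theorem z5_cases (x y : ZMod 5) : y = x ∨ y = x + 1 ∨ y = x + 2 ∨ x = y + 2 ∨ x = y + 1 := by
  revert x y; decide

theorem z5_prop (a b c : ZMod 5) : (b = a + 1 ∨ b = a - 1) → (c = b + 1 ∨ c = b - 1) → c ≠ a →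
    c = b + b - a := by
  revert a b c; decide

theorem z5_card : Fintype.card {p : ZMod 5 × ZMod 5 // p.2 = p.1 + 1 ∨ p.2 = p.1 - 1} = 10 := by
  decide

theorem z5_a (x : ZMod 5) : ¬ (x = x + 1 ∨ x = x - 1) := by revert x; decide

theorem z5_b (x : ZMod 5) : ¬ (x + 2 = x + 1 ∨ x + 2 = x - 1) := by revert x; decide

theorem z5_c (y : ZMod 5) : ¬ (y = y + 2 + 1 ∨ y = y + 2 - 1) := by revert y; decide

theorem z5_d (y : ZMod 5) : y = y + 1 - 1 := by ring

theorem z5_e (i : ZMod 5) : i + 1 + 1 ≠ i := by revert i; decide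

/-- A map of order dividing 5 without fixed points on an invariant finite set: the cardinality is
divisible by 5. -/
theorem five_dvd_card_of_invariant {W : Type u} [Fintype W] [DecidableEq W] (g : W → W)
    (h5 : ∀ w, g (g (g (g (g w)))) = w)
    (F : Finset W) (hF : ∀ w, w ∈ F → g w ∈ F) (hfix : ∀ w ∈ F, g w ≠ w) : 5 ∣ F.card := by
  have : Fact (Nat.Prime 5) := ⟨by norm_num⟩
  let π : Function.End {w // w ∈ F} := fun x => ⟨g x.1, hF _ x.2⟩
  have hπ : π ^ 5 ^ 1 = 1 := by
    funext x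
    apply Subtype.ext
    simp only [pow_succ, pow_zero, one_mul, π]
    exact h5 x.1
  have h := Equiv.Perm.card_fixedPoints_modEq (p := 5) (n := 1) hπ
  have hempty : Fintype.card (Function.fixedPoints π) = 0 := by
    rw [Fintype.card_eq_zero_iff]
    constructor
    rintro ⟨⟨x, hx⟩, hfx⟩
    apply hfix x hx
    exact congrArg Subtype.val hfx
  rw [hempty, Fintype.card_coe] at h
  exact (Nat.modEq_zero_iff_dvd).mp h

/-- (QS5), helper51's copy. -/
theorem lemFive' (hO : LemOrbit.{u}) (hK : LemK.{u, v}) : LemFive.{u, v} := by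
  intro W T _ _ _ _ Q hW16 haniso Γ hΓ ⟨g, hgΓ, hg5⟩
  classical
  have := Fintype.ofFinite W
  have hp2 : Fact (Nat.Prime 2) := ⟨Nat.prime_two⟩
  -- Step 1: `g` is fixed point free and `|W| = 16`
  obtain ⟨U, hUinv, hUfix, hUne, hUdvd⟩ := hO Q.hW g 5 (by norm_num) (by norm_num) hg5
  have hWp : IsPGroup 2 W := fun t => ⟨1, by rw [pow_one, pow_two]; exact Q.hW t⟩
  obtain ⟨m, hm⟩ := hWp.exists_card_eq
  have hm4 : m ≤ 4 := by
    by_contra hcon
    have : 2 ^ 5 ≤ 2 ^ m := Nat.pow_le_pow_right (by norm_num) (by omega)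
    rw [← hm] at this
    omega
  have hUW : Nat.card ↥U ∣ Nat.card W := Subgroup.card_subgroup_dvd_card U
  rw [hm] at hUW
  obtain ⟨j, hjm, hj⟩ := (Nat.dvd_prime_pow Nat.prime_two).mp hUW
  have hU16 : Nat.card ↥U = 16 := by
    have hj4 : j ≤ 4 := hjm.trans hm4
    rw [hj] at hUdvd
    interval_cases j
    · exfalso; rw [pow_zero] at hj; exact hUne (Subgroup.eq_bot_of_card_eq U hj)
    · norm_num at hUdvd
    · norm_num at hUdvd
    · norm_num at hUdvd
    · rw [hj]; rfl
  have hcardW : Nat.card W = 16 := by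
    have := Subgroup.card_le_card_group U
    omega
  have hUtop : U = ⊤ := Subgroup.eq_top_of_card_eq U (by rw [hU16, hcardW])
  have hfix : ∀ u : W, g u = u → u = 1 := fun u hu => hUfix u (hUtop ▸ Subgroup.mem_top u) hu
  have hg5' : g ^ 5 = 1 := hg5 ▸ pow_orderOf_eq_one g
  have hgpow : ∀ n : ℕ, g ^ (n % 5) = g ^ n := fun n => by rw [← hg5]; exact pow_mod_orderOf g n
  have hsqpow : ∀ (n : ℕ) (u : W), Q.sq ((g ^ n) u) = Q.sq u :=
    fun n u => hΓ _ (Γ.pow_mem hgΓ n) u
  have hfixk : ∀ k : ℕ, ¬ 5 ∣ k → ∀ u : W, (g ^ k) u = u → u = 1 := by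
    intro k hk u hu
    have hcop : Nat.Coprime k 5 := by
      rw [Nat.coprime_comm]; exact (Nat.Prime.coprime_iff_not_dvd (by norm_num)).mpr hk
    obtain ⟨a, -, ha⟩ := Nat.exists_mul_mod_eq_one_of_coprime hcop (by norm_num)
    have h1 : ∀ n : ℕ, ((g ^ k) ^ n) u = u := by
      intro n
      induction n with
      | zero => simp
      | succ n ih => rw [pow_succ, MulAut.mul_apply, hu, ih]
    have h2 : g u = u := by
      have := h1 a
      rw [← pow_mul, ← hgpow, ha, pow_one] at this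
      exact this
    exact hfix u h2
  have hinv : ∀ x : W, x⁻¹ = x := fun x => inv_eq_of_mul_eq_one_left (Q.hW x)
  -- Step 2: the five elements `e i = g ^ i w`
  have hnt : Nontrivial W := by
    rw [← Finite.one_lt_card_iff_nontrivial, hcardW]; norm_num
  obtain ⟨w, hw⟩ := exists_ne (1 : W)
  let e : ZMod 5 → W := fun i => (g ^ i.val) w
  have he_add : ∀ i k : ZMod 5, e (i + k) = (g ^ i.val) (e k) := by
    intro i k
    show (g ^ (i + k).val) w = (g ^ i.val) ((g ^ k.val) w)
    rw [ZMod.val_add, hgpow, pow_add, MulAut.mul_apply]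
  have he0 : e 0 = w := by
    show (g ^ (0 : ZMod 5).val) w = w
    rw [ZMod.val_zero, pow_zero, MulAut.one_apply]
  have he_ne : ∀ i, e i ≠ 1 := by
    intro i h
    apply hw
    have h1 : (g ^ i.val) w = (g ^ i.val) 1 := by rw [map_one]; exact h
    exact (g ^ i.val).injective h1
  have he_inj : Function.Injective e := by
    intro i j hij
    by_contra hne
    have hk : (j - i : ZMod 5) ≠ 0 := sub_ne_zero.mpr (Ne.symm hne)
    have h1 : e (i + (j - i)) = e i := by rw [add_sub_cancel]; exact hij.symm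
    rw [he_add] at h1
    have h2 : e (j - i) = w := (g ^ i.val).injective h1
    have h3 : ¬ 5 ∣ (j - i : ZMod 5).val := by
      intro hdvd
      apply hk
      have hlt := ZMod.val_lt (j - i : ZMod 5)
      have h0 : (j - i : ZMod 5).val = 0 := by omega
      exact (ZMod.val_eq_zero _).mp h0
    exact hw (hfixk _ h3 w h2)
  have hg_e : ∀ i : ZMod 5, g (e i) = e (1 + i) := by
    intro i
    rw [he_add]
    have : (1 : ZMod 5).val = 1 := rfl
    rw [this, pow_one]
  have hmul_ne : ∀ x y : ZMod 5, x ≠ y → e x * e y ≠ 1 := by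
    intro x y hxy h
    apply hxy
    apply he_inj
    rw [eq_inv_of_mul_eq_one_left h, hinv]
  have hP : e 0 * e 1 * e 2 * e 3 * e 4 = 1 := by
    apply hfix
    rw [map_mul, map_mul, map_mul, map_mul, hg_e, hg_e, hg_e, hg_e, hg_e]
    have e1 : (1 : ZMod 5) + 0 = 1 := by decide
    have e2 : (1 : ZMod 5) + 1 = 2 := by decide
    have e3 : (1 : ZMod 5) + 2 = 3 := by decide
    have e4 : (1 : ZMod 5) + 3 = 4 := by decide
    have e5 : (1 : ZMod 5) + 4 = 0 := by decide
    rw [e1, e2, e3, e4, e5, Q.W_comm (e 1 * e 2 * e 3 * e 4) (e 0)]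
    simp only [mul_assoc]
  have h012 : e 0 * e 1 * e 2 = e 3 * e 4 := by
    have h1 : e 0 * e 1 * e 2 * (e 3 * e 4) = 1 := by rw [← mul_assoc]; exact hP
    rw [eq_inv_of_mul_eq_one_left h1, hinv]
  have hR : ∀ (k x : ZMod 5), Q.sq (e x * e (x + k)) = Q.sq (e 0 * e k) := by
    intro k x
    calc Q.sq (e x * e (x + k)) = Q.sq ((g ^ x.val) (e 0) * (g ^ x.val) (e k)) := by
          rw [← he_add, ← he_add, add_zero]
      _ = Q.sq ((g ^ x.val) (e 0 * e k)) := by rw [map_mul]
      _ = Q.sq (e 0 * e k) := hsqpow _ _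
  have hsq_e : ∀ x : ZMod 5, Q.sq (e x) = Q.sq (e 0) := by
    intro x
    rw [he0]
    exact hsqpow _ _
  have hs₁1 : Q.sq (e 0) ≠ 1 := fun h => he_ne 0 (haniso _ h)
  have ht₂1 : Q.sq (e 0 * e 1) ≠ 1 := fun h => hmul_ne 0 1 (by decide) (haniso _ h)
  have h7 : ∀ x : W, (x = e 0 ∨ x = e 1 ∨ x = e 2 ∨ x = e 0 * e 1 ∨ x = e 0 * e 2 ∨
      x = e 1 * e 2 ∨ x = e 0 * e 1 * e 2) → x ≠ 1 := by
    intro x hx
    rcases hx with rfl | rfl | rfl | rfl | rfl | rfl | rfl
    · exact he_ne 0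
    · exact he_ne 1
    · exact he_ne 2
    · exact hmul_ne 0 1 (by decide)
    · exact hmul_ne 0 2 (by decide)
    · exact hmul_ne 1 2 (by decide)
    · rw [h012]; exact hmul_ne 3 4 (by decide)
  have ht23 : Q.sq (e 0 * e 1) ≠ Q.sq (e 0 * e 2) := by
    intro heq
    apply hK Q (e 0) (e 1) (e 2) (Q.sq (e 0)) (Q.sq (e 0 * e 1)) hs₁1 ht₂1
    intro x hx
    rcases hx with rfl | rfl | rfl | rfl | rfl | rfl | rfl
    · left; rfl
    · left; exact hsq_e 1
    · left; exact hsq_e 2
    · right; rfl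
    · right; exact heq.symm
    · right
      have := hR 1 1
      have e2 : (1 : ZMod 5) + 1 = 2 := by decide
      rw [e2] at this
      exact this
    · right
      rw [h012]
      have := hR 1 3
      have e4 : (3 : ZMod 5) + 1 = 4 := by decide
      rw [e4] at this
      exact this
  have hV3 : ∀ a b : T, a ≠ 1 → b ≠ 1 → ∃ x : W, x ≠ 1 ∧ Q.sq x ≠ a ∧ Q.sq x ≠ b := by
    intro a b ha hb
    by_contra hcon
    push Not at hcon
    apply hK Q (e 0) (e 1) (e 2) a b ha hb
    intro x hx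
    by_cases h : Q.sq x = a
    · exact Or.inl h
    · exact Or.inr (hcon x (h7 x hx) h)
  -- Step 3: the fibres of `sq`
  obtain ⟨w₂, hw₂1, hw₂a, -⟩ := hV3 (Q.sq (e 0)) (Q.sq (e 0)) hs₁1 hs₁1
  have hs₂1 : Q.sq w₂ ≠ 1 := fun h => hw₂1 (haniso _ h)
  obtain ⟨w₃, hw₃1, hw₃a, hw₃b⟩ := hV3 (Q.sq (e 0)) (Q.sq w₂) hs₁1 hs₂1
  have hs₃1 : Q.sq w₃ ≠ 1 := fun h => hw₃1 (haniso _ h)
  have hg5x : ∀ x : W, g (g (g (g (g x)))) = x := by
    intro x
    have h1 : g ^ 5 = g * (g * (g * (g * g))) := by simp [pow_succ, mul_assoc]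
    rw [h1] at hg5'
    exact DFunLike.congr_fun hg5' x
  let F : T → Finset W := fun s => Finset.univ.filter (fun x => Q.sq x = s)
  have hFmem : ∀ (s : T) (x : W), x ∈ F s ↔ Q.sq x = s := by
    intro s x
    simp only [F, Finset.mem_filter, Finset.mem_univ, true_and]
  have hF5 : ∀ s : T, s ≠ 1 → 5 ∣ (F s).card := by
    intro s hs
    apply five_dvd_card_of_invariant (fun x => g x) hg5x
    · intro x hx
      rw [hFmem] at hx ⊢
      rw [hΓ g hgΓ]; exact hx
    · intro x hx hgx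
      rw [hFmem] at hx
      have := hfix x hgx
      rw [this, Q.sq_one] at hx
      exact hs hx.symm
  have hcard_univ : (Finset.univ : Finset W).card = 16 := by
    rw [Finset.card_univ, ← Nat.card_eq_fintype_card, hcardW]
  have hF1 : (F (Q.sq (e 0))).card = 5 := by
    have hd12 : Disjoint (F (Q.sq (e 0))) (F (Q.sq w₂)) := by
      rw [Finset.disjoint_left]
      intro x hx hx'
      rw [hFmem] at hx hx'
      exact hw₂a (hx'.symm.trans hx)
    have hd3 : Disjoint (F (Q.sq (e 0)) ∪ F (Q.sq w₂)) (F (Q.sq w₃)) := by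
      rw [Finset.disjoint_left]
      intro x hx hx'
      rw [hFmem] at hx'
      rw [Finset.mem_union, hFmem, hFmem] at hx
      rcases hx with hx | hx
      · exact hw₃a (hx'.symm.trans hx)
      · exact hw₃b (hx'.symm.trans hx)
    have hsub : F (Q.sq (e 0)) ∪ F (Q.sq w₂) ∪ F (Q.sq w₃) ⊆ (Finset.univ : Finset W).erase 1 := by
      intro x hx
      rw [Finset.mem_erase]
      refine ⟨?_, Finset.mem_univ x⟩
      rintro rfl
      rw [Finset.mem_union, Finset.mem_union, hFmem, hFmem, hFmem, Q.sq_one] at hx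
      rcases hx with (hx | hx) | hx
      · exact hs₁1 hx.symm
      · exact hs₂1 hx.symm
      · exact hs₃1 hx.symm
    have hle := Finset.card_le_card hsub
    rw [Finset.card_union_of_disjoint hd3, Finset.card_union_of_disjoint hd12,
      Finset.card_erase_of_mem (Finset.mem_univ 1), hcard_univ] at hle
    have hp1 : 0 < (F (Q.sq (e 0))).card := Finset.card_pos.mpr ⟨e 0, (hFmem _ _).mpr rfl⟩
    have hp2 : 0 < (F (Q.sq w₂)).card := Finset.card_pos.mpr ⟨w₂, (hFmem _ _).mpr rfl⟩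
    have hp3 : 0 < (F (Q.sq w₃)).card := Finset.card_pos.mpr ⟨w₃, (hFmem _ _).mpr rfl⟩
    have hd1 := hF5 _ hs₁1
    have hd2 := hF5 _ hs₂1
    have hd3' := hF5 _ hs₃1
    omega
  have hF1e : ∀ x : W, Q.sq x = Q.sq (e 0) → ∃ i, e i = x := by
    have himg : (Finset.univ : Finset (ZMod 5)).image e = F (Q.sq (e 0)) := by
      apply Finset.eq_of_subset_of_card_le
      · intro x hx
        rw [Finset.mem_image] at hx
        obtain ⟨i, -, rfl⟩ := hx
        rw [hFmem]; exact hsq_e i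
      · rw [hF1, Finset.card_image_of_injective _ he_inj, Finset.card_univ]
        decide
    intro x hx
    have hx' : x ∈ (Finset.univ : Finset (ZMod 5)).image e := by rw [himg, hFmem]; exact hx
    rw [Finset.mem_image] at hx'
    obtain ⟨i, -, hi⟩ := hx'
    exact ⟨i, hi⟩
  have hγe : ∀ γ ∈ Γ, ∀ i : ZMod 5, ∃ j, γ (e i) = e j := by
    intro γ hγ i
    obtain ⟨j, hj⟩ := hF1e (γ (e i)) (by rw [hΓ γ hγ]; exact hsq_e i)
    exact ⟨j, hj.symm⟩
  -- Step 4: the pentagon
  have hadj : ∀ x y : ZMod 5, Q.sq (e x * e y) = Q.sq (e 0 * e 1) ↔ (y = x + 1 ∨ y = x - 1) := by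
    intro x y
    rcases z5_cases x y with h | h | h | h | h
    · subst h
      rw [Q.hW, Q.sq_one]
      exact ⟨fun h => absurd h.symm ht₂1, fun h => absurd h (z5_a _)⟩
    · subst h
      rw [hR 1 x]
      exact ⟨fun _ => Or.inl rfl, fun _ => rfl⟩
    · subst h
      rw [hR 2 x]
      exact ⟨fun h => absurd h.symm ht23, fun h => absurd h (z5_b _)⟩
    · subst h
      rw [Q.W_comm, hR 2 y]
      exact ⟨fun h => absurd h.symm ht23, fun h => absurd h (z5_c _)⟩
    · subst h
      rw [Q.W_comm, hR 1 y]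
      exact ⟨fun _ => Or.inr (z5_d y), fun _ => rfl⟩
  have hagree : ∀ γ ∈ Γ, ∀ γ' ∈ Γ, ∀ i : ZMod 5, γ (e i) = γ' (e i) →
      γ (e (i + 1)) = γ' (e (i + 1)) → γ (e (i + 1 + 1)) = γ' (e (i + 1 + 1)) := by
    have hprop : ∀ γ ∈ Γ, ∀ (i a b : ZMod 5), γ (e i) = e a → γ (e (i + 1)) = e b →
        γ (e (i + 1 + 1)) = e (b + b - a) := by
      intro γ hγ i a b ha hb
      obtain ⟨c, hc⟩ := hγe γ hγ (i + 1 + 1)
      have h1 : b = a + 1 ∨ b = a - 1 := by
        rw [← hadj, ← ha, ← hb, ← map_mul, hΓ γ hγ, hR 1 i]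
      have h2 : c = b + 1 ∨ c = b - 1 := by
        rw [← hadj, ← hb, ← hc, ← map_mul, hΓ γ hγ, hR 1 (i + 1)]
      have h3 : c ≠ a := by
        intro hca
        rw [hca, ← ha] at hc
        exact z5_e i (he_inj (γ.injective hc))
      rw [hc, z5_prop a b c h1 h2 h3]
    intro γ hγ γ' hγ' i h0 h1
    obtain ⟨a, ha⟩ := hγe γ hγ i
    obtain ⟨b, hb⟩ := hγe γ hγ (i + 1)
    rw [hprop γ hγ i a b ha hb, hprop γ' hγ' i a b (h0 ▸ ha) (h1 ▸ hb)]
  have hall : ∀ γ ∈ Γ, ∀ γ' ∈ Γ, γ (e 0) = γ' (e 0) → γ (e 1) = γ' (e 1) →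
      ∀ i : ZMod 5, γ (e i) = γ' (e i) := by
    intro γ hγ γ' hγ' h0 h1
    have hn : ∀ n : ℕ, γ (e (n : ZMod 5)) = γ' (e (n : ZMod 5)) ∧
        γ (e ((n : ZMod 5) + 1)) = γ' (e ((n : ZMod 5) + 1)) := by
      intro n
      induction n with
      | zero =>
        rw [Nat.cast_zero, zero_add]
        exact ⟨h0, h1⟩
      | succ n ih =>
        rw [Nat.cast_succ]
        exact ⟨ih.2, hagree γ hγ γ' hγ' _ ih.1 ih.2⟩
    intro i
    have := (hn i.val).1
    rw [ZMod.natCast_zmod_val] at this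
    exact this
  -- Step 5: the elements with `sq = sq (e 0)` generate `W`
  let V : Subgroup W := Subgroup.closure {x : W | Q.sq x = Q.sq (e 0)}
  have hVtop : V = ⊤ := by
    have hVg : ∀ x ∈ V, g x ∈ V := by
      have hle : V ≤ V.comap g.toMonoidHom := by
        apply (Subgroup.closure_le _).mpr
        intro x hx
        show g x ∈ V
        apply Subgroup.subset_closure
        show Q.sq (g x) = Q.sq (e 0)
        rw [hΓ g hgΓ]; exact hx
      exact fun x hx => hle hx
    let FV : Finset W := (Finset.univ.filter (fun x => x ∈ V)).erase 1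
    have hFV : ∀ x, x ∈ FV ↔ x ≠ 1 ∧ x ∈ V := by
      intro x
      simp only [FV, Finset.mem_erase, Finset.mem_filter, Finset.mem_univ, true_and]
    have h5 : 5 ∣ FV.card := by
      apply five_dvd_card_of_invariant (fun x => g x) hg5x
      · intro x hx
        rw [hFV] at hx ⊢
        refine ⟨fun h => hx.1 ?_, hVg x hx.2⟩
        have h1 : g x = g 1 := by rw [map_one]; exact h
        exact g.injective h1
      · intro x hx hgx
        rw [hFV] at hx
        exact hx.1 (hfix x hgx)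
    have hcardV : (Finset.univ.filter (fun x => x ∈ V)).card = Nat.card ↥V := by
      rw [Nat.card_eq_fintype_card]
      exact (Fintype.card_of_subtype _ (fun x => by simp)).symm
    have hFVcard : FV.card + 1 = Nat.card ↥V := by
      rw [← hcardV]
      have h1 : (1 : W) ∈ Finset.univ.filter (fun x => x ∈ V) := by simp [V.one_mem]
      have := Finset.card_erase_of_mem h1
      have hpos : 0 < (Finset.univ.filter (fun x => x ∈ V)).card := Finset.card_pos.mpr ⟨1, h1⟩
      show ((Finset.univ.filter (fun x => x ∈ V)).erase 1).card + 1 = _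
      omega
    have h6 : 6 ≤ Nat.card ↥V := by
      rw [← hcardV]
      have hsub : insert 1 (F (Q.sq (e 0))) ⊆ Finset.univ.filter (fun x => x ∈ V) := by
        intro x hx
        rw [Finset.mem_insert] at hx
        simp only [Finset.mem_filter, Finset.mem_univ, true_and]
        rcases hx with rfl | hx
        · exact V.one_mem
        · exact Subgroup.subset_closure ((hFmem _ _).mp hx)
      have h1 : (1 : W) ∉ F (Q.sq (e 0)) := by
        rw [hFmem, Q.sq_one]; exact fun h => hs₁1 h.symm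
      have := Finset.card_le_card hsub
      rw [Finset.card_insert_of_notMem h1, hF1] at this
      exact this
    have hVW : Nat.card ↥V ∣ Nat.card W := Subgroup.card_subgroup_dvd_card V
    rw [hcardW] at hVW
    have h16 : (16 : ℕ) = 2 ^ 4 := by norm_num
    rw [h16] at hVW
    obtain ⟨j', hj'4, hj'⟩ := (Nat.dvd_prime_pow Nat.prime_two).mp hVW
    apply Subgroup.eq_top_of_card_eq
    rw [hcardW]
    interval_cases j'
    · omega
    · omega
    · omega
    · omega
    · rw [hj']; rfl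
  -- Step 6: the injection into the dihedral pairs
  have key : ∀ γ : ↥Γ, ∃ p : {p : ZMod 5 × ZMod 5 // p.2 = p.1 + 1 ∨ p.2 = p.1 - 1},
      (γ : MulAut W) (e 0) = e p.1.1 ∧ (γ : MulAut W) (e 1) = e p.1.2 := by
    intro γ
    obtain ⟨a, ha⟩ := hγe γ γ.2 0
    obtain ⟨b, hb⟩ := hγe γ γ.2 1
    refine ⟨⟨(a, b), ?_⟩, ha, hb⟩
    show b = a + 1 ∨ b = a - 1
    rw [← hadj, ← ha, ← hb, ← map_mul, hΓ _ γ.2]
  choose f hf using key
  have hfinj : Function.Injective f := by
    intro γ γ' hγγ'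
    have h0 : (γ : MulAut W) (e 0) = (γ' : MulAut W) (e 0) := by
      rw [(hf γ).1, (hf γ').1, hγγ']
    have h1 : (γ : MulAut W) (e 1) = (γ' : MulAut W) (e 1) := by
      rw [(hf γ).2, (hf γ').2, hγγ']
    have hE := hall γ γ.2 γ' γ'.2 h0 h1
    have hEq : Set.EqOn (γ : MulAut W).toMonoidHom (γ' : MulAut W).toMonoidHom
        {x : W | Q.sq x = Q.sq (e 0)} := by
      intro x hx
      obtain ⟨i, rfl⟩ := hF1e x hx
      exact hE i
    have hcl := MonoidHom.eqOn_closure hEq
    apply Subtype.ext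
    apply MulEquiv.ext
    intro x
    have hx : x ∈ V := hVtop ▸ Subgroup.mem_top x
    exact hcl hx
  have hle := Nat.card_le_card_of_injective f hfinj
  rw [Nat.card_eq_fintype_card (α := {p : ZMod 5 × ZMod 5 // p.2 = p.1 + 1 ∨ p.2 = p.1 - 1}),
    z5_card] at hle
  exact hle

end Cfsg.Agent.Lib.Helper51.TI3
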